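import Cfsg.Agent.Lib.Lie.Bicirculant.Eval

/-!
# Dihedral strongly regular graphs: the Frobenius congruence

For a prime `ℓ` dividing `q` the `ℓ`-th power of the adjacency element reduces modulo `ℓ` to a
statement about the fibres of multiplication by `ℓ` on the rotation part.
-/

set_option autoImplicit false
set_option linter.style.haveILetI false

namespace Cfsg.Agent.Lie.Bicirculant

open Finset

variable {q : ℕ} [NeZero q]

theorem aeval_mul_eq_of_mul_eq {R M : Type*} [CommRing R] [Ring M] [Algebra R M] {T J : M} {k : R}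
    (h : J * T = k • J) (Q : Polynomial R) : J * Polynomial.aeval T Q = Q.eval k • J := by
  induction Q using Polynomial.induction_on with
  | C a => rw [Polynomial.aeval_C, Algebra.algebraMap_eq_smul_one, mul_smul_comm, mul_one, Polynomial.eval_C]
  | add f g hf hg => rw [map_add, mul_add, hf, hg, Polynomial.eval_add, add_smul]
  | monomial n a ih =>
    rw [pow_succ, ← mul_assoc, map_mul, ← mul_assoc, ih, Polynomial.aeval_X, smul_mul_assoc, h,
      smul_smul, Polynomial.eval_mul (p := Polynomial.C a * Polynomial.X ^ n), Polynomial.eval_X]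

variable (ℓ : ℕ) [Fact ℓ.Prime]

/-- The character into the group algebra. -/
noncomputable def single' : AddChar (ZMod q) (AddMonoidAlgebra (ZMod ℓ) (ZMod q)) where
  toFun y := AddMonoidAlgebra.single y 1
  map_zero_eq_one' := rfl
  map_add_eq_mul' x y := by rw [AddMonoidAlgebra.single_mul_single, mul_one]

theorem single'_apply (y : ZMod q) :
    single' ℓ y = AddMonoidAlgebra.single y (1 : ZMod ℓ) := rfl

variable (S : Srg q)

theorem pow_eq {R : Type*} [CommRing R] [Algebra (ZMod ℓ) R] [CharP R ℓ] (φ : AddChar (ZMod q) R)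
    (hodd : Odd ℓ) (P : Polynomial (ZMod ℓ)) (a b : ZMod ℓ)
    (hP : (Polynomial.X - Polynomial.C ((((S.C.card : ℤ) - S.D.card : ℤ)) : ZMod ℓ)) *
      (Polynomial.X - Polynomial.C (((S.β - ((S.C.card : ℤ) - S.D.card) : ℤ)) : ZMod ℓ)) ∣ P)
    (hPab : P = Polynomial.X ^ ℓ - Polynomial.C b * Polynomial.X - Polynomial.C a) :
    ∃ c : ZMod ℓ, ∑ i ∈ S.C, φ i ^ ℓ =
      algebraMap (ZMod ℓ) R b * (∑ i ∈ S.C, φ i) + algebraMap (ZMod ℓ) R a +
        algebraMap (ZMod ℓ) R c * ∑ y, φ y := by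
  classical
  let φn : AddChar (ZMod q) R :=
    { toFun := fun y => φ (-y)
      map_zero_eq_one' := by simp
      map_add_eq_mul' := fun x y => by rw [neg_add, AddChar.map_add_eq_mul] }
  obtain ⟨c0, hc0⟩ : ∃ c0 : R, c0 = ∑ i ∈ S.C, φ i := ⟨_, rfl⟩
  obtain ⟨d, hd⟩ : ∃ d : R, d = ∑ i ∈ S.D, φ i := ⟨_, rfl⟩
  obtain ⟨d', hd'⟩ : ∃ d' : R, d' = ∑ i ∈ S.D, φ (-i) := ⟨_, rfl⟩
  obtain ⟨g, hg⟩ : ∃ g : R, g = ∑ y, φ y := ⟨_, rfl⟩
  have hcn : ∑ i ∈ S.C, φn i = c0 := by
    rw [hc0]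
    refine Finset.sum_bij (fun i _ => -i) (fun i hi => S.symm i hi) (fun i _ j _ h => neg_injective h)
      (fun i hi => ⟨-i, S.symm i hi, neg_neg i⟩) fun i _ => rfl
  have hgn : ∑ y, φn y = g := by
    rw [hg]; exact Fintype.sum_equiv (Equiv.neg _) _ _ fun y => rfl
  have e00 : c0 * c0 + d * d' = (S.γ : R) + S.β * c0 + S.μ * g := by
    rw [hc0, hd, hd', hg]; exact S.rot_eval φ
  have e01 : 2 * (c0 * d) = (S.β : R) * d + S.μ * g := by
    rw [hc0, hd, hg]; exact S.refl_eval φ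
  have e10 : 2 * (c0 * d') = (S.β : R) * d' + S.μ * g := by
    have h := S.refl_eval φn
    rw [hcn, hgn] at h
    rw [hd']; exact h
  have hgφ : ∀ i, g * φ i = g := fun i => by
    rw [hg, Finset.sum_mul]
    refine Fintype.sum_equiv (Equiv.addRight i) _ _ fun y => ?_
    rw [Equiv.coe_addRight, AddChar.map_add_eq_mul]
  have hgC : g * c0 = (S.C.card : R) * g := by rw [hc0, Finset.mul_sum]; simp [hgφ]
  have hgD : g * d = (S.D.card : R) * g := by rw [hd, Finset.mul_sum]; simp [hgφ]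
  have hgD' : g * d' = (S.D.card : R) * g := by rw [hd', Finset.mul_sum]; simp [hgφ]
  -- the adjacency element as a matrix
  obtain ⟨T, hT⟩ : ∃ T : Matrix (Fin 2) (Fin 2) R, T = !![c0, d; d', c0] := ⟨_, rfl⟩
  obtain ⟨J, hJ⟩ : ∃ J : Matrix (Fin 2) (Fin 2) R, J = !![g, g; g, g] := ⟨_, rfl⟩
  obtain ⟨U, hU⟩ : ∃ U : Matrix (Fin 2) (Fin 2) R, U = !![0, d; d', 0] := ⟨_, rfl⟩
  have hsm : ∀ (r : ZMod ℓ) (i j : Fin 2) (M : Matrix (Fin 2) (Fin 2) R),
      (r • M) i j = algebraMap (ZMod ℓ) R r * M i j := fun r i j M => by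
    rw [Matrix.smul_apply, Algebra.smul_def]
  have hint : ∀ n : ℤ, algebraMap (ZMod ℓ) R ((n : ZMod ℓ)) = (n : R) := fun n => map_intCast _ n
  have hnat : ∀ n : ℕ, algebraMap (ZMod ℓ) R ((n : ZMod ℓ)) = (n : R) := fun n => map_natCast _ n
  have hJT : J * T = ((S.C.card + S.D.card : ℕ) : ZMod ℓ) • J := by
    ext1 i j
    rw [hsm, hnat]
    fin_cases i <;> fin_cases j <;>
      simp [hJ, hT, Matrix.mul_apply, Fin.sum_univ_two, hgC, hgD, hgD'] <;> ring
  obtain ⟨θ, hθ⟩ : ∃ θ : ℤ, θ = (S.C.card : ℤ) - S.D.card := ⟨_, rfl⟩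
  rw [← hθ] at hP
  have hroot := S.root
  rw [← hθ] at hroot
  obtain ⟨Q, hQ⟩ := hP
  have hquad : (Polynomial.aeval T) ((Polynomial.X - Polynomial.C (θ : ZMod ℓ)) *
      (Polynomial.X - Polynomial.C ((S.β - θ : ℤ) : ZMod ℓ))) = ((S.μ : ℤ) : ZMod ℓ) • J := by
    have hγ : (S.γ : R) = (θ : R) ^ 2 - S.β * θ := by
      have h := congrArg (fun z : ℤ => (z : R)) hroot
      push_cast at h
      linear_combination -h
    simp only [map_mul, map_sub, Polynomial.aeval_X, Polynomial.aeval_C, Algebra.algebraMap_eq_smul_one]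
    ext1 i j
    rw [hsm, hint]
    fin_cases i <;> fin_cases j <;>
      simp [hJ, hT, Matrix.mul_apply, Fin.sum_univ_two, Matrix.sub_apply, hsm,
        Matrix.one_apply, hint, -Int.cast_smul_eq_zsmul] <;>
      first
        | linear_combination e00 + hγ
        | linear_combination e01
        | linear_combination e10
  have hpow : ∃ c : ZMod ℓ, T ^ ℓ = b • T + a • (1 : Matrix (Fin 2) (Fin 2) R) + c • J := by
    refine ⟨(S.μ : ZMod ℓ) * Q.eval ((S.C.card + S.D.card : ℕ) : ZMod ℓ), ?_⟩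
    have h := congrArg (Polynomial.aeval T) hQ
    rw [map_mul, hquad, smul_mul_assoc, aeval_mul_eq_of_mul_eq hJT, smul_smul] at h
    rw [← h, hPab]
    simp only [map_sub, map_mul, map_pow, Polynomial.aeval_X, Polynomial.aeval_C,
      ← Algebra.smul_def, Algebra.algebraMap_eq_smul_one, smul_mul_assoc, one_mul]
    abel
  obtain ⟨c, hc⟩ := hpow
  refine ⟨c, ?_⟩
  -- the diagonal of the power
  have hsplit : T = Matrix.scalar (Fin 2) c0 + U := by
    ext1 i j; fin_cases i <;> fin_cases j <;> simp [hT, hU, Matrix.scalar_apply]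
  have hUpow : ∀ n : ℕ, U ^ (2 * n + 1) = (d * d') ^ n • U := by
    intro n
    induction n with
    | zero => simp
    | succ n ih =>
      rw [show 2 * (n + 1) + 1 = (2 * n + 1) + 2 by ring, pow_add, ih, smul_mul_assoc]
      have : U * U ^ 2 = (d * d') • U := by
        ext1 i j
        fin_cases i <;> fin_cases j <;>
          simp [hU, pow_two, Matrix.mul_apply, Fin.sum_univ_two, Matrix.smul_apply] <;> ring
      rw [this, smul_smul, pow_succ]
  haveI : CharP (Matrix (Fin 2) (Fin 2) R) ℓ := inferInstance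
  have hdiag : (T ^ ℓ) 0 0 = c0 ^ ℓ := by
    obtain ⟨n, hn⟩ := hodd
    rw [hsplit, add_pow_char_of_commute ℓ (Matrix.scalar_commute c0 (fun r => Commute.all c0 r) U),
      ← map_pow, Matrix.add_apply]
    conv_lhs => arg 2; rw [hn, hUpow n]
    simp [hU, Matrix.scalar_apply]
  rw [hc] at hdiag
  simp only [Matrix.add_apply, hsm, hT, hJ, Matrix.one_apply_eq, mul_one, Matrix.cons_val_zero,
    Matrix.cons_val', Matrix.cons_val_fin_one, Matrix.of_apply] at hdiag
  rw [hc0, sum_pow_char] at hdiag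
  rw [← hdiag, hg]

theorem frobenius_fibres (hodd : Odd ℓ) (P : Polynomial (ZMod ℓ)) (a b : ZMod ℓ)
    (hP : (Polynomial.X - Polynomial.C ((((S.C.card : ℤ) - S.D.card : ℤ)) : ZMod ℓ)) *
      (Polynomial.X - Polynomial.C (((S.β - ((S.C.card : ℤ) - S.D.card) : ℤ)) : ZMod ℓ)) ∣ P)
    (hPab : P = Polynomial.X ^ ℓ - Polynomial.C b * Polynomial.X - Polynomial.C a) :
    ∃ c : ZMod ℓ, ∀ y : ZMod q, ((S.C.filter fun x => ℓ • x = y).card : ZMod ℓ) =
      a * (if y = 0 then 1 else 0) + b * (if y ∈ S.C then 1 else 0) + c := by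
  classical
  haveI : CharP (AddMonoidAlgebra (ZMod ℓ) (ZMod q)) ℓ :=
    charP_of_injective_algebraMap (FaithfulSMul.algebraMap_injective (ZMod ℓ) _) ℓ
  obtain ⟨c, hc⟩ := pow_eq ℓ S (single' ℓ) hodd P a b hP hPab
  refine ⟨c, fun y => ?_⟩
  have hcoef := congrArg (fun f : AddMonoidAlgebra (ZMod ℓ) (ZMod q) => f.coeff y) hc
  simp only [single'_apply, AddMonoidAlgebra.single_pow, one_pow, AddMonoidAlgebra.coe_algebraMap,
    Finset.mul_sum, AddMonoidAlgebra.single_mul_single, zero_add, mul_one, Function.comp_apply,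
    Algebra.algebraMap_self_apply, AddMonoidAlgebra.coeff_add, AddMonoidAlgebra.coeff_sum,
    AddMonoidAlgebra.coeff_single, Finsupp.coe_finset_sum, Finset.sum_apply, Finsupp.add_apply,
    Finsupp.single_apply] at hcoef
  rw [Finset.sum_ite_eq' S.C y, Finset.sum_ite_eq' Finset.univ y, if_pos (Finset.mem_univ y),
    Finset.sum_boole] at hcoef
  rw [hcoef]
  simp only [mul_ite, mul_one, mul_zero, eq_comm (a := (0 : ZMod q))]
  ring

end Cfsg.Agent.Lie.Bicirculant
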