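import Mathlib

/-!
# Strongly regular Cayley graphs on dihedral groups: the two equations

The connection set of a Cayley graph on the dihedral group of order `2 q` is a pair `(C, D)` of
subsets of `ZMod q` (rotations and reflections), with `C` symmetric. Strong regularity is a pair
of convolution equations, evaluated here under an arbitrary character.
-/

set_option autoImplicit false

namespace Cfsg.Agent.Lie.Bicirculant

open Finset

/-- The data of a strongly regular dihedral Cayley graph. -/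
structure Srg (q : ℕ) [NeZero q] where
  C : Finset (ZMod q)
  D : Finset (ZMod q)
  β : ℤ
  γ : ℤ
  μ : ℤ
  zero_notMem : (0 : ZMod q) ∉ C
  symm : ∀ g ∈ C, -g ∈ C
  eq_rot : ∀ y : ZMod q, ((C.filter fun i => y - i ∈ C).card : ℤ) + (D.filter fun i => i - y ∈ D).card =
    (if y = 0 then γ else 0) + β * (if y ∈ C then 1 else 0) + μ
  eq_refl : ∀ y : ZMod q, 2 * ((C.filter fun i => y - i ∈ D).card : ℤ) =
    β * (if y ∈ D then 1 else 0) + μ
  μ_ne_zero : μ ≠ 0
  μ_ne_degree : μ ≠ C.card + D.card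
  not_complete : C.card + D.card + 1 < 2 * q

variable {q : ℕ} [NeZero q]

theorem conv_eval {R : Type*} [CommRing R] (φ : AddChar (ZMod q) R) (A B : Finset (ZMod q)) :
    (∑ i ∈ A, φ i) * ∑ j ∈ B, φ j = ∑ y, ((A.filter fun i => y - i ∈ B).card : R) * φ y := by
  classical
  simp only [card_filter, Nat.cast_sum, Finset.sum_mul]
  rw [Finset.sum_comm, Finset.sum_congr rfl fun i (_ : i ∈ A) => ?_]
  rw [Finset.mul_sum, ← Fintype.sum_equiv (Equiv.addLeft i)
    (fun j => (((if i + j - i ∈ B then 1 else 0 : ℕ) : R)) * φ (i + j)) _ fun j => rfl]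
  simp only [add_sub_cancel_left, Nat.cast_ite, Nat.cast_one, Nat.cast_zero, ite_mul, one_mul,
    zero_mul, sum_ite_mem, univ_inter, AddChar.map_add_eq_mul]

theorem corr_eval {R : Type*} [CommRing R] (φ : AddChar (ZMod q) R) (A B : Finset (ZMod q)) :
    (∑ i ∈ A, φ i) * ∑ j ∈ B, φ (-j) = ∑ y, ((A.filter fun i => i - y ∈ B).card : R) * φ y := by
  classical
  have h := conv_eval φ A (B.map (Equiv.neg (ZMod q)).toEmbedding)
  rw [Finset.sum_map] at h
  simpa [neg_sub] using h

namespace Srg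

variable (S : Srg q) {R : Type*} [CommRing R] (φ : AddChar (ZMod q) R)

theorem rot_eval : (∑ i ∈ S.C, φ i) * (∑ i ∈ S.C, φ i) + (∑ i ∈ S.D, φ i) * ∑ i ∈ S.D, φ (-i) =
    (S.γ : R) + S.β * (∑ i ∈ S.C, φ i) + S.μ * ∑ y, φ y := by
  classical
  rw [conv_eval, corr_eval, ← sum_add_distrib]
  have h : ∀ y, ((S.C.filter fun i => y - i ∈ S.C).card : R) + (S.D.filter fun i => i - y ∈ S.D).card =
      (if y = 0 then (S.γ : R) else 0) + S.β * (if y ∈ S.C then 1 else 0) + S.μ := fun y => by
    have h := congrArg (fun z : ℤ => (z : R)) (S.eq_rot y)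
    simpa [apply_ite ((↑) : ℤ → R)] using h
  simp only [← add_mul, h]
  simp [add_mul, sum_add_distrib, ← mul_sum, mul_assoc]

theorem refl_eval : 2 * ((∑ i ∈ S.C, φ i) * ∑ i ∈ S.D, φ i) =
    (S.β : R) * (∑ i ∈ S.D, φ i) + S.μ * ∑ y, φ y := by
  classical
  rw [conv_eval, mul_sum]
  have h : ∀ y, 2 * ((S.C.filter fun i => y - i ∈ S.D).card : R) =
      S.β * (if y ∈ S.D then 1 else 0) + S.μ := fun y => by
    have h := congrArg (fun z : ℤ => (z : R)) (S.eq_refl y)
    simpa [apply_ite ((↑) : ℤ → R)] using h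
  simp only [← mul_assoc, h]
  simp [add_mul, sum_add_distrib, ← mul_sum, mul_assoc]

theorem degree : (S.γ : ℤ) + S.μ = S.C.card + S.D.card := by
  classical
  have h := S.eq_rot 0
  have h1 : (S.C.filter fun i => (0 : ZMod q) - i ∈ S.C) = S.C :=
    filter_true_of_mem fun i hi => by rw [zero_sub]; exact S.symm i hi
  have h2 : (S.D.filter fun i => i - (0 : ZMod q) ∈ S.D) = S.D :=
    filter_true_of_mem fun i hi => by rwa [sub_zero]
  rw [h1, h2, if_pos rfl, if_neg S.zero_notMem] at h
  linarith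

theorem trivial_rot : (S.C.card : ℤ) ^ 2 + (S.D.card : ℤ) ^ 2 = S.γ + S.β * S.C.card + S.μ * q := by
  have h := S.rot_eval (1 : AddChar (ZMod q) ℤ)
  simpa [pow_two] using h

theorem trivial_refl : 2 * ((S.C.card : ℤ) * S.D.card) = S.β * S.D.card + S.μ * q := by
  have h := S.refl_eval (1 : AddChar (ZMod q) ℤ)
  simpa using h

/-- The eigenvalue on the partition into rotations and reflections. -/
theorem root : ((S.C.card : ℤ) - S.D.card) ^ 2 = S.γ + S.β * ((S.C.card : ℤ) - S.D.card) := by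
  linear_combination S.trivial_rot - S.trivial_refl

end Srg

end Cfsg.Agent.Lie.Bicirculant
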