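import Cfsg.Agent.Lib.Lie.Bicirculant.Main

/-!
# No strongly regular dihedral Cayley graph: Fourier counting
-/

set_option autoImplicit false
set_option linter.style.haveILetI false

namespace Cfsg.Agent.Lie.Bicirculant

open Finset

variable {q : ℕ} [NeZero q]

/-- The character of index `j`. -/
noncomputable def ch (j : ZMod q) : AddChar (ZMod q) ℂ :=
  AddChar.mulShift ZMod.stdAddChar j

theorem ch_apply (j y : ZMod q) : ch j y = ZMod.stdAddChar (j * y) := rfl

theorem sum_ch (j : ZMod q) (hj : j ≠ 0) : ∑ y, ch j y = 0 := by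
  classical
  have := AddChar.sum_mulShift (ψ := (ZMod.stdAddChar : AddChar (ZMod q) ℂ)) j (ZMod.isPrimitive_stdAddChar q)
  rw [if_neg hj, Nat.cast_zero] at this
  rw [← this]
  exact Finset.sum_congr rfl fun y _ => by rw [ch_apply, mul_comm]

theorem sum_index (y : ZMod q) : ∑ j, ch j y = if y = 0 then (q : ℂ) else 0 := by
  classical
  have := AddChar.sum_mulShift (ψ := (ZMod.stdAddChar : AddChar (ZMod q) ℂ)) y (ZMod.isPrimitive_stdAddChar q)
  rw [ZMod.card] at this
  simp only [ch_apply]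
  rw [this]
  split_ifs <;> simp

/-- A rational partial sum of a non-trivial root of unity of prime order is all or nothing. -/
theorem rational_partial_sum {ℓ : ℕ} (hl : ℓ.Prime) {ω : ℂ} (hω : IsPrimitiveRoot ω ℓ)
    (x : ℕ → ℤ) (hx0 : x 0 = 0) (r : ℤ) (h : ∑ i ∈ range ℓ, 2 * (x i : ℂ) * ω ^ i = r) :
    r = -(2 * x (ℓ - 1)) ∧ ∀ i ∈ range ℓ, i ≠ 0 → x i = x (ℓ - 1) := by
  classical
  have hgeom := hω.geom_sum_eq_zero hl.one_lt
  set a : ℕ → ℤ := fun i => 2 * x i - (if i = 0 then r else 0) - 2 * x (ℓ - 1) with ha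
  have hsum : ∑ i ∈ range (ℓ - 1), (a i : ℂ) * ω ^ i = 0 := by
    have hfull : ∑ i ∈ range ℓ, (a i : ℂ) * ω ^ i = 0 := by
      have e : ∀ i ∈ range ℓ, (a i : ℂ) * ω ^ i =
          2 * (x i : ℂ) * ω ^ i - (if i = 0 then (r : ℂ) else 0) - 2 * (x (ℓ - 1) : ℂ) * ω ^ i := by
        intro i _
        rw [ha]
        split_ifs with hi
        · subst hi; simp
        · push_cast; rw [if_neg hi]; ring
      rw [Finset.sum_congr rfl e, sum_sub_distrib, sum_sub_distrib, h, ← mul_sum, hgeom,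
        sum_ite_eq', if_pos (mem_range.2 hl.pos)]
      ring
    rw [show range ℓ = range (ℓ - 1 + 1) by rw [Nat.sub_add_cancel hl.pos], sum_range_succ] at hfull
    have hlast : a (ℓ - 1) = 0 := by
      have := hl.two_le
      rw [ha]; simp only; rw [if_neg (by omega)]; ring
    rw [hlast, Int.cast_zero, zero_mul, add_zero] at hfull
    exact hfull
  have hdeg : (minpoly ℚ ω).natDegree = ℓ - 1 := by
    haveI : NeZero (ℓ : ℂ) := ⟨by exact_mod_cast hl.ne_zero⟩
    rw [← Polynomial.cyclotomic_eq_minpoly_rat hω hl.pos, Polynomial.natDegree_cyclotomic,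
      Nat.totient_prime hl]
  have hli := linearIndependent_pow (K := ℚ) ω
  rw [Fintype.linearIndependent_iff] at hli
  have hz : ∀ i < ℓ - 1, a i = 0 := by
    intro i hi
    have h0 : ∑ i : Fin (minpoly ℚ ω).natDegree, (a i : ℚ) • ω ^ (i : ℕ) = 0 := by
      rw [← hsum, ← hdeg, ← Fin.sum_univ_eq_sum_range (fun i => (a i : ℂ) * ω ^ i)]
      exact Finset.sum_congr rfl fun j _ => by rw [Algebra.smul_def]; simp
    have := hli _ h0 ⟨i, hdeg ▸ hi⟩
    exact_mod_cast this
  have := hl.two_le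
  refine ⟨?_, fun i hi hi0 => ?_⟩
  · have h1 := hz 0 (by omega)
    simp only [ha, hx0, if_pos] at h1
    omega
  · by_cases hlast : i = ℓ - 1
    · rw [hlast]
    · have h1 := hz i (by rw [mem_range] at hi; omega)
      simp only [ha, if_neg hi0] at h1
      omega

namespace Srg

variable (S : Srg q)

set_option maxHeartbeats 1600000 in
theorem false_of_odd (S : Srg q) (hodd : Odd q) : False := by
  classical
  obtain ⟨ℓ, hl, hd, hper⟩ := S.exists_periodic hodd
  haveI := Fact.mk hl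
  have hl3 : 3 ≤ ℓ := by
    have := (hodd.of_dvd_nat hd)
    rcases hl.eq_two_or_odd with h | h
    · rw [h] at this; exact absurd this (by decide)
    · have := hl.two_le; omega
  have hlq : ℓ ≤ q := Nat.le_of_dvd (NeZero.pos q) hd
  have hr0 : 0 < q / ℓ := Nat.div_pos hlq hl.pos
  obtain ⟨κ, hκ⟩ : ∃ κ : ZMod q, κ = ((q / ℓ : ℕ) : ZMod q) := ⟨_, rfl⟩
  have hlκ : ℓ • κ = 0 := by
    rw [hκ, nsmul_eq_mul, ← Nat.cast_mul, Nat.mul_div_cancel' hd, ZMod.natCast_self]
  have hκ0 : κ ≠ 0 := by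
    rw [hκ, Ne, ZMod.natCast_eq_zero_iff]
    exact Nat.not_dvd_of_pos_of_lt hr0 (Nat.div_lt_self (NeZero.pos q) hl.one_lt)
  have hκinj : ∀ i < ℓ, ∀ j < ℓ, i • κ = j • κ → i = j := by
    intro i hi j hj h
    have hlt : ∀ i < ℓ, i * (q / ℓ) < q := fun i hi => by
      calc i * (q / ℓ) < ℓ * (q / ℓ) := Nat.mul_lt_mul_of_pos_right hi hr0
        _ = q := Nat.mul_div_cancel' hd
    rw [hκ, nsmul_eq_mul, nsmul_eq_mul, ← Nat.cast_mul, ← Nat.cast_mul] at h
    have := congrArg ZMod.val h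
    rw [ZMod.val_cast_of_lt (hlt i hi), ZMod.val_cast_of_lt (hlt j hj)] at this
    exact Nat.eq_of_mul_eq_mul_right hr0 this
  have hK : ∀ y : ZMod q, ℓ • y = 0 → ∃ i < ℓ, i • κ = y := by
    have himg : (range ℓ).image (fun i => i • κ) = univ.filter fun y : ZMod q => ℓ • y = 0 := by
      refine Finset.eq_of_subset_of_card_le (fun y hy => ?_) ?_
      · obtain ⟨i, -, rfl⟩ := mem_image.1 hy
        rw [mem_filter]
        exact ⟨mem_univ _, by rw [smul_comm, hlκ, nsmul_zero]⟩
      · rw [card_image_of_injOn fun i hi j hj h => hκinj i (mem_range.1 hi) j (mem_range.1 hj) h, card_range]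
        exact kernel_card_le hl.pos
    intro y hy
    have : y ∈ (range ℓ).image (fun i => i • κ) := by rw [himg]; simp only [mem_filter, mem_univ, true_and]; exact hy
    obtain ⟨i, hi, rfl⟩ := mem_image.1 this
    exact ⟨i, mem_range.1 hi, rfl⟩
  obtain ⟨xi, hxi⟩ : ∃ xi : ℕ → ℤ, ∀ i, xi i = if i • κ ∈ S.C then 1 else 0 := ⟨_, fun _ => rfl⟩
  have hx0 : xi 0 = 0 := by rw [hxi, if_neg (by rw [zero_nsmul]; exact S.zero_notMem)]
  obtain ⟨θ, hθ⟩ : ∃ θ : ℤ, θ = (S.C.card : ℤ) - S.D.card := ⟨_, rfl⟩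
  have hroot := S.root
  rw [← hθ] at hroot
  -- Fourier coefficients
  let v : ZMod q → ℂ := fun j => ∑ i ∈ S.C, ch j i
  let d : ZMod q → ℂ := fun j => ∑ i ∈ S.D, ch j i
  let d' : ZMod q → ℂ := fun j => ∑ i ∈ S.D, ch j (-i)
  have hrot : ∀ j ≠ 0, d j * d' j = -((v j - θ) * (v j - (S.β - θ))) := by
    intro j hj
    have h := S.rot_eval (ch j)
    rw [sum_ch j hj, mul_zero, add_zero] at h
    have hr : ((θ : ℂ)) ^ 2 = S.γ + S.β * θ := by exact_mod_cast hroot
    simp only [v, d, d'] at h ⊢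
    linear_combination h - hr
  have hrefl : ∀ j ≠ 0, (2 * v j - S.β) * d j = 0 := by
    intro j hj
    have h := S.refl_eval (ch j)
    rw [sum_ch j hj, mul_zero, add_zero] at h
    simp only [v, d] at h ⊢
    linear_combination h
  -- characters non-trivial on the small subgroup
  have hsumK : ∀ j, ch j κ ≠ 1 → 2 * v j = ∑ i ∈ range ℓ, 2 * (xi i : ℂ) * ch j κ ^ i := by
    intro j hj
    have hsplit : v j = (∑ y ∈ S.C.filter fun y => ℓ • y = 0, ch j y) +
        ∑ y ∈ S.C.filter fun y => ¬ ℓ • y = 0, ch j y :=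
      (sum_filter_add_sum_filter_not _ _ _).symm
    have hrest : ∑ y ∈ S.C.filter (fun y => ¬ ℓ • y = 0), ch j y = 0 := by
      set A := S.C.filter fun y => ¬ ℓ • y = 0 with hA
      have hsh : ∑ y ∈ A, ch j (y + κ) = ∑ y ∈ A, ch j y := by
        have hinj : ∀ y ∈ A, y + κ ∈ A := fun y hy => by
          rw [hA, mem_filter] at hy ⊢
          refine ⟨hper y hy.1 hy.2 _ (by rw [nsmul_add, hlκ, add_zero]), ?_⟩
          rw [nsmul_add, hlκ, add_zero]; exact hy.2
        have himg : A.image (fun y => y + κ) = A := Finset.eq_of_subset_of_card_le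
          (fun y hy => by obtain ⟨z, hz, rfl⟩ := mem_image.1 hy; exact hinj z hz)
          (by rw [card_image_of_injective _ (fun a b h => add_right_cancel h)])
        conv_rhs => rw [← himg, sum_image fun a _ b _ h => add_right_cancel h]
      simp only [AddChar.map_add_eq_mul, ← sum_mul] at hsh
      exact (mul_eq_zero.1 (show (∑ y ∈ A, ch j y) * (ch j κ - 1) = 0 by linear_combination hsh)).resolve_right
        (sub_ne_zero.2 hj)
    have hsmall : ∑ y ∈ S.C.filter (fun y => ℓ • y = 0), ch j y =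
        ∑ i ∈ (range ℓ).filter (fun i => i • κ ∈ S.C), ch j (i • κ) := by
      symm
      refine Finset.sum_bij (fun i _ => i • κ) (fun i hi => ?_) (fun i hi k hk h => ?_) (fun y hy => ?_)
        fun i _ => rfl
      · rw [mem_filter] at hi ⊢
        exact ⟨hi.2, by rw [smul_comm, hlκ, nsmul_zero]⟩
      · rw [mem_filter, mem_range] at hi hk
        exact hκinj i hi.1 k hk.1 h
      · rw [mem_filter] at hy
        obtain ⟨i, hi, rfl⟩ := hK y hy.2
        exact ⟨i, mem_filter.2 ⟨mem_range.2 hi, hy.1⟩, rfl⟩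
    rw [hsplit, hrest, add_zero, hsmall, sum_filter, mul_sum]
    refine sum_congr rfl fun i _ => ?_
    rw [hxi]
    split_ifs <;> simp [AddChar.map_nsmul_eq_pow, -nsmul_eq_mul]
  have hprim : ∀ j, ch j κ ≠ 1 → IsPrimitiveRoot (ch j κ) ℓ := fun j hj =>
    (IsPrimitiveRoot.iff_orderOf).2 (orderOf_eq_prime
      (by rw [← AddChar.map_nsmul_eq_pow, hlκ, AddChar.map_zero_eq_one]) hj)
  obtain ⟨x, hx⟩ : ∃ x : ℤ, x = xi (ℓ - 1) := ⟨_, rfl⟩
  have hstd : ∀ j, ch j κ = 1 ↔ (q / ℓ) • j = 0 := by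
    intro j
    rw [ch_apply, ← AddChar.map_zero_eq_one (ZMod.stdAddChar : AddChar (ZMod q) ℂ),
      ZMod.injective_stdAddChar.eq_iff, hκ, nsmul_eq_mul, mul_comm]
  have hvK : ∀ j, ch j κ ≠ 1 → v j = -(x : ℂ) ∧ ∀ i ∈ range ℓ, i ≠ 0 → xi i = x := by
    intro j hj
    have hj0 : j ≠ 0 := fun h => hj (by rw [h, ch_apply, zero_mul, AddChar.map_zero_eq_one])
    obtain ⟨r, hr⟩ : ∃ r : ℤ, 2 * v j = r := by
      by_cases hd0 : d j = 0
      · have := hrot j hj0
        rw [hd0, zero_mul, eq_comm, neg_eq_zero] at this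
        rcases mul_eq_zero.1 this with h | h
        · exact ⟨2 * θ, by push_cast; linear_combination 2 * h⟩
        · exact ⟨2 * (S.β - θ), by push_cast; linear_combination 2 * h⟩
      · exact ⟨S.β, by linear_combination (mul_eq_zero.1 (hrefl j hj0)).resolve_right hd0⟩
    have he := hsumK j hj
    rw [hr] at he
    obtain ⟨h1, h2⟩ := rational_partial_sum hl (hprim j hj) xi hx0 r he.symm
    refine ⟨?_, fun i hi hi0 => (h2 i hi hi0).trans hx.symm⟩
    rw [h1, ← hx] at hr
    push_cast at hr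
    linear_combination hr / 2
  obtain ⟨j₁, hj₁⟩ : ∃ j, ch j κ ≠ 1 := ⟨1, fun h => hκ0 (by
    rw [ch_apply, one_mul, ← AddChar.map_zero_eq_one (ZMod.stdAddChar : AddChar (ZMod q) ℂ)] at h
    exact ZMod.injective_stdAddChar h)⟩
  have hxall := (hvK j₁ hj₁).2
  have hx01 : x = 0 ∨ x = 1 := by rw [hx, hxi]; split_ifs <;> simp
  have hKC : ∀ y, y ≠ 0 → ℓ • y = 0 → (y ∈ S.C ↔ x = 1) := by
    intro y hy0 hy
    obtain ⟨i, hi, rfl⟩ := hK y hy
    have hi0 : i ≠ 0 := fun h => hy0 (by rw [h, zero_nsmul])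
    rw [← hxall i (mem_range.2 hi) hi0, hxi]
    split_ifs with h <;> simp [h, -nsmul_eq_mul]
  -- beta
  have hβ : S.β = -(2 * x) := by
    by_contra hne
    have hdzero : ∀ j, ch j κ ≠ 1 → d j = 0 := by
      intro j hj
      have hj0 : j ≠ 0 := fun h => hj (by rw [h, ch_apply, zero_mul, AddChar.map_zero_eq_one])
      refine (mul_eq_zero.1 (hrefl j hj0)).resolve_left fun h => hne ?_
      rw [(hvK j hj).1] at h
      have : (-(2 * x) : ℂ) = S.β := by linear_combination h
      exact_mod_cast this.symm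
    have hDper : ∀ y, y ∈ S.D → y + κ ∈ S.D := by
      intro y hy
      have hinv : ∀ z, ∑ j, ch j (-z) * d j = (if z ∈ S.D then (q : ℂ) else 0) := by
        intro z
        simp only [d, mul_sum, ← AddChar.map_add_eq_mul]
        rw [sum_comm]
        simp only [sum_index, neg_add_eq_zero]
        rw [sum_ite_eq]
      have hkey : ∑ j, ch j (-(y + κ)) * d j = ∑ j, ch j (-y) * d j := by
        refine sum_congr rfl fun j _ => ?_
        by_cases hj : ch j κ = 1
        · rw [neg_add, AddChar.map_add_eq_mul, show ch j (-κ) = 1 by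
            rw [AddChar.map_neg_eq_inv, hj, inv_one], mul_one]
        · rw [hdzero j hj, mul_zero, mul_zero]
      rw [hinv, hinv, if_pos hy] at hkey
      by_contra h
      rw [if_neg h] at hkey
      exact (Nat.cast_ne_zero.2 (NeZero.ne q)) hkey.symm
    have hDper' : ∀ y, y ∈ S.D → y - κ ∈ S.D := by
      intro y hy
      have : ∀ n : ℕ, y + n • κ ∈ S.D := fun n => by
        induction n with
        | zero => simpa
        | succ n ih => rw [succ_nsmul, ← add_assoc]; exact hDper _ ih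
      have h := this (ℓ - 1)
      rwa [show (ℓ - 1) • κ = -κ from eq_neg_of_add_eq_zero_left (by
        rw [← succ_nsmul, Nat.sub_add_cancel hl.pos, hlκ]), ← sub_eq_add_neg] at h
    have hrow := S.eq_rot κ
    rw [if_neg hκ0, Finset.filter_true_of_mem (s := S.D) hDper'] at hrow
    have hCmem : ∀ i ∈ S.C, i ≠ κ → κ - i ∈ S.C := by
      intro i hi hiκ
      rw [← neg_sub]
      refine S.symm _ ?_
      have hlk : ℓ • (i - κ) = ℓ • i := by rw [nsmul_sub, hlκ, sub_zero]
      by_cases h0 : ℓ • i = 0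
      · have hi0 : i ≠ 0 := fun h => S.zero_notMem (h ▸ hi)
        exact (hKC _ (sub_ne_zero.2 hiκ) (hlk.trans h0)).2 ((hKC i hi0 h0).1 hi)
      · exact hper i hi h0 _ hlk
    have hdeg := S.degree
    rcases hx01 with hx' | hx'
    · have hκC : κ ∉ S.C := fun h => by have := (hKC κ hκ0 hlκ).1 h; omega
      rw [if_neg hκC, Finset.filter_true_of_mem fun i hi => hCmem i hi fun h => hκC (h ▸ hi)] at hrow
      exact S.μ_ne_degree (by linarith)
    · have hκC : κ ∈ S.C := (hKC κ hκ0 hlκ).2 hx'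
      have hfil : (S.C.filter fun i => κ - i ∈ S.C) = S.C.erase κ := by
        ext i
        rw [mem_filter, mem_erase]
        refine ⟨fun h => ⟨fun e => S.zero_notMem ?_, h.1⟩, fun h => ⟨h.2, hCmem i h.2 h.1⟩⟩
        have := h.2
        rwa [e, sub_self] at this
      rw [if_pos hκC, hfil, card_erase_of_mem hκC,
        Nat.cast_sub (card_pos.2 ⟨κ, hκC⟩)] at hrow
      push_cast at hrow
      have h1 := S.trivial_rot
      have h2 := S.trivial_refl
      have hnc := S.not_complete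
      rcases mul_eq_zero.1 (show S.μ * (2 * (q : ℤ) - 1 - ((S.C.card : ℤ) + S.D.card)) = 0 by
        linear_combination -(h1 + h2) - hdeg + ((S.C.card : ℤ) + S.D.card) * hrow) with h | h
      · exact S.μ_ne_zero h
      · omega
  -- the parameters
  obtain ⟨c, hc⟩ : ∃ c : ℤ, c = S.C.card := ⟨_, rfl⟩
  obtain ⟨e, he⟩ : ∃ e : ℤ, e = S.D.card := ⟨_, rfl⟩
  obtain ⟨u, hu⟩ : ∃ u : ℤ, u = c + x := ⟨_, rfl⟩
  obtain ⟨Δ, hΔ⟩ : ∃ Δ : ℤ, Δ = θ + x := ⟨_, rfl⟩
  have hxx : x * x = x := by rcases hx01 with h | h <;> rw [h] <;> norm_num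
  have hγ : S.γ = Δ ^ 2 - x := by
    rw [hβ] at hroot
    linear_combination -hroot - (Δ + θ + x) * hΔ - hxx
  have hμq : S.μ * q = 2 * e * u := by
    have h := S.trivial_refl
    rw [hβ, ← hc, ← he] at h
    rw [hu]
    linear_combination -h
  have hμ : S.μ = u + e - Δ ^ 2 := by
    have h := S.degree
    rw [← hc, ← he] at h
    rw [hu]
    linarith
  have hue : u = e + Δ := by rw [hu, hΔ, hθ, hc, he]; ring
  have hnc : c + e + 1 < 2 * q := by rw [hc, he]; exact_mod_cast S.not_complete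
  have htw : S.μ ≠ c + e := by rw [hc, he]; exact S.μ_ne_degree
  have heq' : e ≤ q := by
    rw [he]; have := Finset.card_le_univ S.D; rw [ZMod.card] at this; exact_mod_cast this
  have he0 : e ≠ 0 := by
    intro h
    rw [h, mul_zero, zero_mul] at hμq
    exact S.μ_ne_zero ((mul_eq_zero.1 hμq).resolve_right (by exact_mod_cast NeZero.ne q))
  have hcq : c ≤ q - 1 := by
    rw [hc]
    have : S.C ⊆ univ.erase 0 := fun y hy => mem_erase.2 ⟨fun h => S.zero_notMem (h ▸ hy), mem_univ _⟩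
    have := Finset.card_le_card this
    rw [card_erase_of_mem (mem_univ _), card_univ, ZMod.card] at this
    have := NeZero.pos q
    omega
  have hq3 : (3 : ℤ) ≤ q := by exact_mod_cast hl3.trans hlq
  -- Parseval
  let E : Finset (ZMod q) := univ.filter fun j => j ≠ 0 ∧ 2 * v j = (S.β : ℂ)
  have hpars : (e : ℂ) ^ 2 + E.card * (Δ : ℂ) ^ 2 = q * e := by
    have htot : ∑ j, d j * d' j = (q : ℂ) * e := by
      simp only [d, d', sum_mul, mul_sum]
      rw [sum_comm, he, Int.cast_natCast, mul_comm, ← nsmul_eq_mul, ← Finset.sum_const]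
      refine sum_congr rfl fun a ha => ?_
      rw [sum_comm]
      simp only [← AddChar.map_add_eq_mul, sum_index, ← sub_eq_add_neg, sub_eq_zero, sum_ite_eq, sum_ite_eq', if_pos ha]
    have hval : ∀ j ∈ univ.erase (0 : ZMod q), d j * d' j = if j ∈ E then (Δ : ℂ) ^ 2 else 0 := by
      intro j hj
      have hj0 := (mem_erase.1 hj).1
      by_cases hjE : j ∈ E
      · rw [if_pos hjE, hrot j hj0, hΔ]
        have hv := (mem_filter.1 hjE).2.2
        rw [hβ] at hv ⊢
        push_cast at hv ⊢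
        have hv' : v j = -(x : ℂ) := by linear_combination hv / 2
        rw [hv']; ring
      · rw [if_neg hjE]
        have hne : 2 * v j - (S.β : ℂ) ≠ 0 := fun h => hjE (mem_filter.2 ⟨mem_univ _, hj0, sub_eq_zero.1 h⟩)
        rw [(mul_eq_zero.1 (hrefl j hj0)).resolve_left hne, zero_mul]
    rw [← htot, ← add_sum_erase univ _ (mem_univ (0 : ZMod q)), sum_congr rfl hval, sum_ite_mem,
      sum_const, nsmul_eq_mul]
    congr 1
    · simp [d, d', ch_apply, he, pow_two]
    · congr 2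
      rw [inter_eq_right.2]
      intro j hj
      exact mem_erase.2 ⟨(mem_filter.1 hj).2.1, mem_univ _⟩
  have hpars' : e ^ 2 + (E.card : ℤ) * Δ ^ 2 = q * e := by exact_mod_cast hpars
  by_cases hΔ0 : Δ = 0
  · rw [hΔ0] at hpars' hue hμ
    have heq : e = q := mul_left_cancel₀ he0 (by linear_combination hpars')
    omega
  -- the support is large
  have ht_le : E.card + 1 ≤ q := by
    have : E ⊆ univ.erase 0 := fun j hj => mem_erase.2 ⟨(mem_filter.1 hj).2.1, mem_univ _⟩
    have := Finset.card_le_card this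
    rw [card_erase_of_mem (mem_univ _), card_univ, ZMod.card] at this
    have := NeZero.pos q
    omega
  have ht_ge : 2 * q ≤ 3 * E.card := by
    have hsub : univ \ (univ.filter fun j : ZMod q => (q / ℓ) • j = 0) ⊆ E := by
      intro j hj
      simp only [mem_sdiff, mem_univ, mem_filter, true_and] at hj
      have hj' : ch j κ ≠ 1 := fun h => hj ((hstd j).1 h)
      refine mem_filter.2 ⟨mem_univ _, fun h => hj' ?_, ?_⟩
      · rw [h, ch_apply, zero_mul, AddChar.map_zero_eq_one]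
      · rw [(hvK j hj').1, hβ]; push_cast; ring
    have h1 := Finset.card_le_card hsub
    rw [card_sdiff_of_subset (subset_univ _), card_univ, ZMod.card] at h1
    have h2 := kernel_card_le (q := q) hr0
    have h3 : ℓ * (q / ℓ) = q := Nat.mul_div_cancel' hd
    have h4 : 3 * (q / ℓ) ≤ ℓ * (q / ℓ) := Nat.mul_le_mul_right _ hl3
    omega
  obtain ⟨t, ht⟩ : ∃ t : ℤ, t = E.card := ⟨_, rfl⟩
  rw [← ht] at hpars'
  have ht1 : t ≤ q - 1 := by rw [ht]; omega
  have ht2 : 2 * (q : ℤ) ≤ 3 * t := by rw [ht]; exact_mod_cast ht_ge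
  have hlin : (2 * t - q) * Δ = 2 * e - q := by
    refine mul_left_cancel₀ hΔ0 ?_
    rw [hμ, hue] at hμq
    linear_combination hμq + 2 * hpars'
  have hsq : (q : ℤ) ^ 2 = Δ ^ 2 * ((2 * t - q) ^ 2 + 4 * t) := by
    linear_combination ((2 * t - q) * Δ + (2 * e - q)) * (-hlin) - 4 * hpars'
  have hΔodd : Δ % 2 ≠ 0 := by
    intro h
    obtain ⟨w, hw⟩ := Int.dvd_of_emod_eq_zero h
    have h2 : (2 : ℤ) ∣ (q : ℤ) ^ 2 := ⟨2 * w ^ 2 * ((2 * t - q) ^ 2 + 4 * t), by rw [hsq, hw]; ring⟩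
    have h3 : (2 : ℤ) ∣ (q : ℤ) := Int.prime_two.dvd_of_dvd_pow h2
    obtain ⟨m, hm⟩ := hodd
    obtain ⟨n, hn⟩ := h3
    omega
  have hb : (q : ℤ) ≤ 3 * (2 * t - q) := by omega
  have hsmall : Δ = 1 ∨ Δ = -1 := by
    by_contra h
    have : 9 ≤ Δ ^ 2 := by
      have : 3 ≤ Δ ∨ Δ ≤ -3 := by omega
      rcases this with h' | h'
      · exact pow_le_pow_left₀ (by norm_num : (0 : ℤ) ≤ 3) h' 2
      · rw [← neg_sq Δ]; exact pow_le_pow_left₀ (by norm_num : (0 : ℤ) ≤ 3) (by omega : (3 : ℤ) ≤ -Δ) 2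
    have hq0 : (0 : ℤ) ≤ (q : ℤ) := Int.natCast_nonneg q
    have hb2 : (q : ℤ) ^ 2 ≤ (3 * (2 * t - q)) ^ 2 := pow_le_pow_left₀ hq0 hb 2
    have ht0 : 0 < t := by omega
    have h9 : 9 * ((2 * t - q) ^ 2 + 4 * t) ≤ Δ ^ 2 * ((2 * t - q) ^ 2 + 4 * t) :=
      mul_le_mul_of_nonneg_right this (add_nonneg (sq_nonneg _) (by omega))
    rw [mul_pow] at hb2
    linarith
  have hΔ2 : Δ ^ 2 = 1 := by rcases hsmall with h | h <;> rw [h] <;> norm_num
  have htq : t = q - 1 := by
    rw [hΔ2, one_mul] at hsq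
    have : t * (t - (q - 1)) = 0 := (mul_eq_zero.1
      (show (4 : ℤ) * (t * (t - (q - 1))) = 0 by linear_combination -hsq)).resolve_left (by norm_num)
    rcases mul_eq_zero.1 this with h | h <;> omega
  rw [hΔ2, htq] at hpars'
  rw [htq] at hlin
  rw [hΔ2] at hμ
  rcases mul_eq_zero.1 (show (e - 1) * (e - (q - 1)) = 0 by linear_combination hpars') with h | h
  · have he1 : e = 1 := by omega
    rw [he1] at hμq hlin hμ
    have hΔm : Δ = -1 := by
      rcases hsmall with h' | h'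
      · rw [h'] at hlin; omega
      · exact h'
    exact S.μ_ne_zero (by rw [hμ, hue, he1, hΔm]; norm_num)
  · have he1 : e = q - 1 := by omega
    rw [he1] at hlin
    have hΔp : Δ = 1 := by
      rcases hsmall with h' | h'
      · exact h'
      · rw [h'] at hlin; omega
    rw [hμ, hue, hΔp, he1] at htw hμq
    omega

end Srg

end Cfsg.Agent.Lie.Bicirculant
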