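import Cfsg.Agent.Lib.Lie.Bicirculant.Congr

/-!
# No strongly regular Cayley graph on a dihedral group of order twice an odd number

Modulo a prime `ℓ ∣ q` the rotation part is either periodic outside the subgroup of order `ℓ` or
fixed by the map `y ↦ ℓ • y`; Fourier counting finishes both cases.
-/

set_option autoImplicit false
set_option linter.style.haveILetI false

namespace Cfsg.Agent.Lie.Bicirculant

open Finset Polynomial

variable {q : ℕ} [NeZero q]

theorem nsmul_ne_one {ℓ : ℕ} (hl : 1 < ℓ) (hdiv : ℓ ∣ q) (x : ZMod q) : ℓ • x ≠ 1 := by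
  intro h
  have h' := congrArg (ZMod.castHom hdiv (ZMod ℓ)) h
  rw [map_nsmul, map_one, nsmul_eq_mul, ZMod.natCast_self, zero_mul] at h'
  haveI : Fact (1 < ℓ) := ⟨hl⟩
  exact zero_ne_one h'

theorem kernel_card_le {n : ℕ} (hn : 0 < n) :
    (univ.filter fun x : ZMod q => n • x = 0).card ≤ n :=
  IsAddCyclic.card_nsmul_eq_zero_le hn

theorem fibre_eq_image {ℓ : ℕ} (hl : 0 < ℓ) (z : ZMod q) :
    (univ.filter fun x : ZMod q => ℓ • x = ℓ • z).card ≤ ℓ := by
  classical
  refine le_trans (le_of_eq ?_) (kernel_card_le (q := q) hl)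
  refine Finset.card_bij (fun x _ => x - z) (fun x hx => ?_) (fun x _ y _ h => sub_left_injective h)
    fun y hy => ⟨y + z, ?_, add_sub_cancel_right y z⟩
  · simp only [mem_filter, mem_univ, true_and] at hx ⊢
    rw [nsmul_sub, hx, sub_self]
  · simp only [mem_filter, mem_univ, true_and] at hy ⊢
    rw [nsmul_add, hy, zero_add]

/-- A set fixed modulo `ℓ` by the fibre count has no element of order divisible by `ℓ`. -/
theorem order_coprime {ℓ : ℕ} [Fact ℓ.Prime] (A : Finset (ZMod q))
    (hA : ∀ y : ZMod q, y ≠ 0 → ((A.filter fun x => ℓ • x = y).card : ZMod ℓ) = if y ∈ A then 1 else 0)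
    (y : ZMod q) (hy : y ∈ A) : ¬ ℓ ∣ addOrderOf y := by
  classical
  intro hyd
  obtain ⟨w, hw, hmax⟩ := Finset.exists_max_image (A.filter fun y => ℓ ∣ addOrderOf y) addOrderOf
    ⟨y, mem_filter.2 ⟨hy, hyd⟩⟩
  rw [mem_filter] at hw
  obtain ⟨hwA, hwd⟩ := hw
  have hl := (Fact.out : ℓ.Prime)
  have hw0 : w ≠ 0 := fun h => by
    rw [h, addOrderOf_zero] at hwd
    exact hl.one_lt.ne' (Nat.dvd_one.1 hwd)
  have h := hA w hw0
  rw [if_pos hwA] at h
  obtain ⟨z, hz⟩ : (A.filter fun x => ℓ • x = w).Nonempty := by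
    rw [Finset.nonempty_iff_ne_empty]
    intro he
    rw [he, card_empty, Nat.cast_zero] at h
    exact zero_ne_one h
  rw [mem_filter] at hz
  have hord := addOrderOf_nsmul' z hl.ne_zero
  rw [hz.2] at hord
  have hdvd : addOrderOf w ∣ addOrderOf z := by
    rw [← hz.2]; exact addOrderOf_dvd_of_mem_zmultiples ⟨(ℓ : ℤ), natCast_zsmul z ℓ⟩
  have hzd : ℓ ∣ addOrderOf z := hwd.trans hdvd
  rw [Nat.gcd_eq_right hzd] at hord
  have hpos := addOrderOf_pos z
  have hle := hmax z (mem_filter.2 ⟨hz.1, hzd⟩)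
  rw [hord] at hle
  exact absurd hle (not_le.2 (Nat.div_lt_self hpos hl.one_lt))

theorem eq_zero_of_order_coprime (y : ZMod q) (h : ∀ ℓ : ℕ, ℓ.Prime → ℓ ∣ q → ¬ ℓ ∣ addOrderOf y) :
    y = 0 := by
  have hdvd : addOrderOf y ∣ q := by simpa using addOrderOf_dvd_card (x := y)
  rw [← AddMonoid.addOrderOf_eq_one_iff]
  by_contra hne
  obtain ⟨ℓ, hl, hld⟩ := Nat.exists_prime_and_dvd hne
  exact h ℓ hl (hld.trans hdvd) hld

namespace Srg

variable (S : Srg q)

theorem not_empty (hC : S.C = ∅) : False := by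
  classical
  have h1 : ∀ y, (0 : ℤ) = S.β * (if y ∈ S.D then 1 else 0) + S.μ := fun y => by
    simpa [hC] using S.eq_refl y
  have hD : S.D = univ := Finset.eq_univ_iff_forall.2 fun y => by
    by_contra hy
    have := h1 y
    rw [if_neg hy] at this
    exact S.μ_ne_zero (by linarith)
  have h0 := S.trivial_rot
  have h3 := S.trivial_refl
  have h4 := S.degree
  have h5 := S.μ_ne_degree
  rw [hC, hD, card_empty, card_univ, ZMod.card] at h0 h3 h4 h5
  push_cast at h0 h3 h4 h5
  apply h5
  have hq : (1 : ℤ) ≤ q := by exact_mod_cast Nat.one_le_iff_ne_zero.2 (NeZero.ne q)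
  rcases eq_or_lt_of_le hq with hq1 | hq1
  · exfalso
    have := S.not_complete
    rw [hC, hD, card_empty, card_univ, ZMod.card] at this
    have : (q : ℤ) = 1 := hq1.symm
    omega
  have : ((q : ℤ) - 1) * ((q : ℤ) - S.μ) = 0 := by linear_combination h0 + h4
  rcases mul_eq_zero.1 this with h | h
  · omega
  · linarith

theorem not_full (hC : ∀ y, y ≠ 0 → y ∈ S.C) : False := by
  classical
  have hCe : S.C = univ.erase 0 := by
    ext y
    simp only [mem_erase, mem_univ, and_true]
    exact ⟨fun h h0 => S.zero_notMem (h0 ▸ h), hC y⟩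
  have hc : (S.C.card : ℤ) = q - 1 := by
    rw [hCe, card_erase_of_mem (mem_univ _), card_univ, ZMod.card, Nat.cast_sub]
    · simp
    · exact Nat.one_le_iff_ne_zero.2 (NeZero.ne q)
  have h1 : ∀ y, 2 * ((S.D.card : ℤ) - if y ∈ S.D then 1 else 0) =
      S.β * (if y ∈ S.D then 1 else 0) + S.μ := by
    intro y
    rw [← S.eq_refl y]
    congr 1
    have e : (S.C.filter fun i => y - i ∈ S.D).card = (S.D.erase y).card := by
      refine Finset.card_bij (fun i _ => y - i) (fun i hi => ?_) (fun i _ j _ h => sub_right_injective h)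
        fun j hj => ⟨y - j, ?_, sub_sub_cancel y j⟩
      · rw [mem_filter] at hi
        exact mem_erase.2 ⟨fun h => S.zero_notMem ((sub_eq_self.1 h) ▸ hi.1), hi.2⟩
      · rw [mem_erase] at hj
        exact mem_filter.2 ⟨hC _ (sub_ne_zero.2 hj.1.symm), by rw [sub_sub_cancel]; exact hj.2⟩
    rw [e]
    split_ifs with h
    · rw [card_erase_of_mem h, Nat.cast_sub (card_pos.2 ⟨y, h⟩)]; simp
    · rw [erase_eq_of_notMem h]; simp
  by_cases hall : ∀ y, y ∈ S.D
  · have := S.not_complete
    rw [Finset.eq_univ_iff_forall.2 hall, hCe, card_erase_of_mem (mem_univ _), card_univ, ZMod.card] at this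
    omega
  by_cases hnone : ∀ y, y ∉ S.D
  · have h2 := h1 0
    rw [if_neg (hnone 0), Finset.eq_empty_of_forall_notMem hnone, card_empty] at h2
    exact S.μ_ne_zero (by push_cast at h2; linarith)
  push Not at hall hnone
  obtain ⟨a, ha⟩ := hall
  obtain ⟨b, hb⟩ := hnone
  have h2 := h1 a
  have h3 := h1 b
  rw [if_neg ha] at h2
  rw [if_pos hb] at h3
  have hβ : S.β = -2 := by linarith
  have h4 := S.trivial_rot
  have h5 := S.degree
  rw [hc] at h4 h5
  rw [hβ] at h4
  have hμ : S.μ = 2 * S.D.card := by linarith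
  rw [hμ] at h4 h5
  rcases mul_eq_zero.1 (show ((S.D.card : ℤ) - q) * ((S.D.card : ℤ) - (q - 1)) = 0 by
    linear_combination h4 + h5) with h | h
  · have : S.D.card = q := by omega
    exact ha ((Finset.card_eq_iff_eq_univ S.D).1 (by rw [this, ZMod.card]) ▸ mem_univ a)
  · exact S.μ_ne_degree (by rw [hμ, hc]; linarith)

/-- Either a prime gives periodicity, or the rotation part is empty or full. -/
theorem exists_periodic (hodd : Odd q) :
    ∃ ℓ : ℕ, ℓ.Prime ∧ ℓ ∣ q ∧ ∀ z ∈ S.C, ℓ • z ≠ 0 → ∀ w, ℓ • w = ℓ • z → w ∈ S.C := by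
  classical
  by_contra hno
  push Not at hno
  have key : ∀ ℓ : ℕ, ℓ.Prime → ℓ ∣ q → ∃ c : ZMod ℓ, ∀ y : ZMod q,
      ((S.C.filter fun x => ℓ • x = y).card : ZMod ℓ) = (if y ∈ S.C then 1 else 0) + c := by
    intro ℓ hl hd
    haveI := Fact.mk hl
    have hlodd : Odd ℓ := hodd.of_dvd_nat hd
    set θ : ZMod ℓ := ((((S.C.card : ℤ) - S.D.card : ℤ)) : ZMod ℓ) with hθ
    set τ : ZMod ℓ := (((S.β - ((S.C.card : ℤ) - S.D.card) : ℤ)) : ZMod ℓ) with hτ
    by_cases he : θ = τ
    · exfalso
      obtain ⟨c, hc⟩ := frobenius_fibres ℓ S hlodd (X ^ ℓ - Polynomial.C θ) θ 0 (by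
        rw [← hθ, ← hτ, ← he, ← pow_two]
        have : (X - Polynomial.C θ) ^ ℓ = X ^ ℓ - Polynomial.C θ := by
          rw [sub_pow_char, ← Polynomial.C_pow, ZMod.pow_card]
        rw [← this]
        exact pow_dvd_pow _ hl.two_le) (by simp)
      have hc0 : c = 0 := by
        have h1 := hc 1
        haveI : Fact (1 < q) := ⟨lt_of_lt_of_le hl.one_lt (Nat.le_of_dvd (NeZero.pos q) hd)⟩
        rw [Finset.filter_false_of_mem fun x _ => nsmul_ne_one hl.one_lt hd x] at h1
        simpa using h1.symm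
      obtain ⟨z, hz, hz0, w, hw, hwC⟩ := hno ℓ hl hd
      have h1 := hc (ℓ • z)
      rw [if_neg hz0, hc0, mul_zero, zero_mul, add_zero, add_zero, ZMod.natCast_eq_zero_iff] at h1
      have hsub : (S.C.filter fun x => ℓ • x = ℓ • z) ⊆ univ.filter fun x => ℓ • x = ℓ • z :=
        filter_subset_filter _ (subset_univ _)
      have heq := Finset.eq_of_subset_of_card_le hsub ((fibre_eq_image hl.pos z).trans
        (Nat.le_of_dvd (card_pos.2 ⟨z, mem_filter.2 ⟨hz, rfl⟩⟩) h1))
      have : w ∈ S.C.filter fun x => ℓ • x = ℓ • z := by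
        rw [heq, mem_filter]; exact ⟨mem_univ _, hw⟩
      exact hwC (mem_filter.1 this).1
    · obtain ⟨c, hc⟩ := frobenius_fibres ℓ S hlodd (X ^ ℓ - X) 0 1 (by
        rw [← hθ, ← hτ]
        refine IsCoprime.mul_dvd (Polynomial.isCoprime_X_sub_C_of_isUnit_sub
          (sub_ne_zero.2 he).isUnit) ?_ ?_ <;>
          simp [Polynomial.dvd_iff_isRoot, ZMod.pow_card]) (by simp)
      exact ⟨c, fun y => by rw [hc y, zero_mul, zero_add, one_mul]⟩
  by_cases h1C : (1 : ZMod q) ∈ S.C
  · refine S.not_full fun y hy => ?_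
    by_contra hyC
    refine hy (eq_zero_of_order_coprime y fun ℓ hl hd => ?_)
    haveI := Fact.mk hl
    obtain ⟨c, hc⟩ := key ℓ hl hd
    refine order_coprime (ℓ := ℓ) ((univ.erase 0) \ S.C) (fun w hw => ?_) y (by simp [hy, hyC])
    have h1 := hc 1
    rw [if_pos h1C, Finset.filter_false_of_mem fun x _ => nsmul_ne_one hl.one_lt hd x, card_empty,
      Nat.cast_zero] at h1
    have h2 := hc w
    by_cases hex : ∃ z : ZMod q, ℓ • z = w
    · obtain ⟨z, rfl⟩ := hex
      have hfull : (univ.filter fun x : ZMod q => ℓ • x = ℓ • z).card = ℓ := by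
        refine le_antisymm (fibre_eq_image hl.pos z) ?_
        let f : Fin ℓ → ZMod q := fun i => z + ((q / ℓ * i : ℕ) : ZMod q)
        have finj : Function.Injective f := by
          intro i j hij
          have hlt : ∀ i : Fin ℓ, q / ℓ * i < q := fun i => by
            conv_rhs => rw [← Nat.div_mul_cancel hd]
            exact Nat.mul_lt_mul_of_pos_left i.2 (Nat.div_pos (Nat.le_of_dvd (NeZero.pos q) hd) hl.pos)
          have := congrArg ZMod.val (add_left_cancel hij)
          rw [ZMod.val_cast_of_lt (hlt i), ZMod.val_cast_of_lt (hlt j)] at this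
          exact Fin.ext (Nat.eq_of_mul_eq_mul_left
            (Nat.div_pos (Nat.le_of_dvd (NeZero.pos q) hd) hl.pos) this)
        refine le_trans (le_of_eq (show ℓ = (univ.image f).card by
          rw [card_image_of_injective _ finj, card_univ, Fintype.card_fin]))
          (Finset.card_le_card fun x hx => ?_)
        obtain ⟨i, -, rfl⟩ := mem_image.1 hx
        simp only [mem_filter, mem_univ, true_and, f, nsmul_add, add_eq_left]
        rw [nsmul_eq_mul, ← Nat.cast_mul, ← mul_assoc, Nat.mul_div_cancel' hd, Nat.cast_mul,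
          ZMod.natCast_self, zero_mul]
      have hsplit : ((univ.erase 0) \ S.C).filter (fun x => ℓ • x = ℓ • z) =
          (univ.filter fun x => ℓ • x = ℓ • z) \ (S.C.filter fun x => ℓ • x = ℓ • z) := by
        ext x
        simp only [mem_filter, mem_sdiff, mem_erase, mem_univ, and_true, true_and]
        constructor
        · rintro ⟨⟨-, h3⟩, h4⟩; exact ⟨h4, fun h => h3 h.1⟩
        · rintro ⟨h4, h5⟩
          refine ⟨⟨fun h0 => hw ?_, fun h => h5 ⟨h, h4⟩⟩, h4⟩
          rw [← h4, h0, nsmul_zero]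
      rw [hsplit, Finset.card_sdiff_of_subset (filter_subset_filter _ (subset_univ _)),
        Nat.cast_sub (card_le_card (filter_subset_filter _ (subset_univ _))), hfull, ZMod.natCast_self,
        h2, show c = -1 from eq_neg_of_add_eq_zero_right h1.symm]
      simp only [mem_sdiff, mem_erase, mem_univ, and_true, hw, ne_eq, not_false_eq_true, true_and, ite_not]
      split_ifs <;> ring
    · push Not at hex
      rw [Finset.filter_false_of_mem fun x _ => hex x, card_empty, Nat.cast_zero]
      rw [Finset.filter_false_of_mem fun x _ => hex x, card_empty, Nat.cast_zero,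
        show c = -1 from eq_neg_of_add_eq_zero_right h1.symm] at h2
      have hwC : w ∈ S.C := by
        by_contra h
        rw [if_neg h] at h2
        simp at h2
      simp [hwC]
  · refine S.not_empty (Finset.eq_empty_of_forall_notMem fun y hy => ?_)
    have hy0 : y = 0 := eq_zero_of_order_coprime y fun ℓ hl hd => by
      haveI := Fact.mk hl
      obtain ⟨c, hc⟩ := key ℓ hl hd
      refine order_coprime (ℓ := ℓ) S.C (fun w _ => ?_) y hy
      have h1 := hc 1
      rw [if_neg h1C, Finset.filter_false_of_mem fun x _ => nsmul_ne_one hl.one_lt hd x, card_empty,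
        Nat.cast_zero, zero_add] at h1
      rw [hc w, ← h1, add_zero]
    exact S.zero_notMem (hy0 ▸ hy)

end Srg

end Cfsg.Agent.Lie.Bicirculant
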